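import Mathlib
import Groth.Prelude.Def_CohB1

set_option linter.unusedSectionVars false
set_option linter.unusedVariables false
set_option autoImplicit false
set_option maxHeartbeats 400000

noncomputable section

namespace Groth.Agent.Lib.Helper6.ProjDim

open DirectSum

section General

variable {A σ : Type*} [CommRing A] [SetLike σ A] [AddSubmonoidClass σ A]
variable (𝒜 : ℕ → σ) [GradedRing 𝒜]

lemma isHomogeneous_of_mem_minimalPrimes {I : Ideal A} (hI : I.IsHomogeneous 𝒜) {q : Ideal A}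
    (hq : q ∈ I.minimalPrimes) : q.IsHomogeneous 𝒜 := by
  have hqp : q.IsPrime := hq.1.1
  have hcore : (q.homogeneousCore 𝒜).toIdeal.IsPrime := Ideal.IsPrime.homogeneousCore hqp
  have hle : I ≤ (q.homogeneousCore 𝒜).toIdeal := by
    have h1 := Ideal.homogeneousCore_mono 𝒜 hq.1.2
    have h2 : (I.homogeneousCore 𝒜).toIdeal = I := hI.toIdeal_homogeneousCore_eq_self
    rw [← h2]
    exact h1
  have h3 : q ≤ (q.homogeneousCore 𝒜).toIdeal :=
    hq.2 ⟨hcore, hle⟩ (Ideal.toIdeal_homogeneousCore_le 𝒜 q)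
  rw [Ideal.IsHomogeneous.iff_eq]
  exact le_antisymm (Ideal.toIdeal_homogeneousCore_le 𝒜 q) h3

/-- hypothesis: degree zero part is a field -/
def ZeroField : Prop := ∀ a : A, a ∈ 𝒜 0 → a ≠ 0 → IsUnit a

variable {𝒜}

lemma proj_zero_mem (a : A) : GradedRing.proj 𝒜 0 a ∈ 𝒜 0 := by
  rw [GradedRing.proj_apply]
  exact SetLike.coe_mem _

lemma le_irrelevant_of_isHomogeneous (h0 : ZeroField 𝒜) {I : Ideal A} (hI : I.IsHomogeneous 𝒜)
    (hne : I ≠ ⊤) : I ≤ (HomogeneousIdeal.irrelevant 𝒜).toIdeal := by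
  intro a ha
  change a ∈ HomogeneousIdeal.irrelevant 𝒜
  rw [HomogeneousIdeal.mem_irrelevant_iff]
  by_contra hne0
  have hmem : GradedRing.proj 𝒜 0 a ∈ I := by
    rw [GradedRing.proj_apply]
    exact hI 0 ha
  have hu := h0 _ (proj_zero_mem a) hne0
  exact hne (Ideal.eq_top_of_isUnit_mem _ hmem hu)

lemma irrelevant_isMaximal [Nontrivial A] (h0 : ZeroField 𝒜) :
    (HomogeneousIdeal.irrelevant 𝒜).toIdeal.IsMaximal := by
  rw [Ideal.isMaximal_iff]
  constructor
  · intro h1
    change (1 : A) ∈ HomogeneousIdeal.irrelevant 𝒜 at h1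
    rw [HomogeneousIdeal.mem_irrelevant_iff, GradedRing.proj_apply,
      DirectSum.decompose_of_mem_same 𝒜 SetLike.GradedOne.one_mem] at h1
    exact one_ne_zero h1
  · intro J a hle ha haJ
    have hne0 : GradedRing.proj 𝒜 0 a ≠ 0 := by
      intro h
      exact ha ((HomogeneousIdeal.mem_irrelevant_iff 𝒜 a).2 h)
    have hsub : a - GradedRing.proj 𝒜 0 a ∈ (HomogeneousIdeal.irrelevant 𝒜).toIdeal := by
      change a - GradedRing.proj 𝒜 0 a ∈ HomogeneousIdeal.irrelevant 𝒜
      rw [HomogeneousIdeal.mem_irrelevant_iff, map_sub, sub_eq_zero]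
      rw [GradedRing.proj_apply, GradedRing.proj_apply]
      rw [DirectSum.decompose_of_mem_same 𝒜 (SetLike.coe_mem _)]
    have hmem : GradedRing.proj 𝒜 0 a ∈ J := by
      have := J.sub_mem haJ (hle hsub)
      rwa [sub_sub_cancel] at this
    have hu := h0 _ (proj_zero_mem a) hne0
    have := Ideal.eq_top_of_isUnit_mem _ hmem hu
    rw [this]
    exact Submodule.mem_top

lemma relevant_iff_ne [Nontrivial A] (h0 : ZeroField 𝒜) {q : Ideal A} (hq : q.IsPrime) :
    ¬ (HomogeneousIdeal.irrelevant 𝒜).toIdeal ≤ q ↔ q ≠ (HomogeneousIdeal.irrelevant 𝒜).toIdeal := by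
  constructor
  · intro h1 h2
    exact h1 (le_of_eq h2.symm)
  · intro h1 h2
    exact h1 ((irrelevant_isMaximal h0).eq_of_le hq.ne_top h2).symm

end General

section Poly

universe u

variable (k : Type u) [Field k] (n : ℕ)

lemma zeroField_poly : ZeroField (CohB1.polyGrading n k) := by
  intro a ha hne
  have ha' : a.IsHomogeneous 0 := ha
  have h1 : a = MvPolynomial.C (MvPolynomial.coeff 0 a) := by
    have := MvPolynomial.homogeneousComponent_of_mem (m := 0) ha'
    rw [if_pos rfl] at this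
    rw [← MvPolynomial.homogeneousComponent_zero]
    exact this.symm
  rw [h1]
  apply IsUnit.map
  apply IsUnit.mk0
  intro h
  apply hne
  rw [h1, h, map_zero]

end Poly

end Groth.Agent.Lib.Helper6.ProjDim
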