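import Mathlib

set_option linter.unusedSectionVars false
set_option linter.unusedVariables false
set_option autoImplicit false
set_option maxHeartbeats 400000

noncomputable section

namespace Groth.Agent.Lib.Helper6.ProjDim

open ProjectiveSpectrum TopologicalSpace

variable {A σ : Type*} [CommRing A] [SetLike σ A] [AddSubmonoidClass σ A]
variable (𝒜 : ℕ → σ) [GradedRing 𝒜]

lemma vanishingIdeal_le_of_mem {Z : Set (ProjectiveSpectrum 𝒜)} {x : ProjectiveSpectrum 𝒜}
    (hx : x ∈ Z) : vanishingIdeal Z ≤ x.asHomogeneousIdeal := by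
  intro f hf
  exact (mem_vanishingIdeal Z f).1 hf x hx

lemma isPrime_vanishingIdeal {Z : Set (ProjectiveSpectrum 𝒜)} (hZ : IsIrreducible Z) :
    (vanishingIdeal Z).toIdeal.IsPrime := by
  obtain ⟨x, hx⟩ := hZ.nonempty
  apply (vanishingIdeal Z).isHomogeneous.isPrime_of_homogeneous_mem_or_mem
  · intro htop
    have h1 : (1 : A) ∈ (vanishingIdeal Z).toIdeal := by rw [htop]; exact Submodule.mem_top
    have h2 : (1 : A) ∈ x.asHomogeneousIdeal.toIdeal := vanishingIdeal_le_of_mem 𝒜 hx h1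
    exact x.isPrime.ne_top ((Ideal.eq_top_iff_one _).2 h2)
  · intro f g hf hg hfg
    have hsub : Z ⊆ zeroLocus 𝒜 {f} ∪ zeroLocus 𝒜 {g} := by
      intro y hy
      have h1 : f * g ∈ y.asHomogeneousIdeal.toIdeal := vanishingIdeal_le_of_mem 𝒜 hy hfg
      rcases y.isPrime.mem_or_mem h1 with h | h
      · left
        rw [mem_zeroLocus, Set.singleton_subset_iff]
        exact h
      · right
        rw [mem_zeroLocus, Set.singleton_subset_iff]
        exact h
    rcases (isPreirreducible_iff_isClosed_union_isClosed.1 hZ.isPreirreducible) _ _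
      (isClosed_zeroLocus 𝒜 {f}) (isClosed_zeroLocus 𝒜 {g}) hsub with h | h
    · left
      refine (mem_vanishingIdeal Z f).2 ?_
      intro y hy
      exact Set.singleton_subset_iff.1 ((mem_zeroLocus 𝒜 y {f}).1 (h hy))
    · right
      refine (mem_vanishingIdeal Z g).2 ?_
      intro y hy
      exact Set.singleton_subset_iff.1 ((mem_zeroLocus 𝒜 y {g}).1 (h hy))

/-- the generic point of an irreducible set -/
def genPt {Z : Set (ProjectiveSpectrum 𝒜)} (hZ : IsIrreducible Z) : ProjectiveSpectrum 𝒜 :=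
  ⟨vanishingIdeal Z, isPrime_vanishingIdeal 𝒜 hZ, by
    obtain ⟨x, hx⟩ := hZ.nonempty
    intro h
    exact x.not_irrelevant_le (h.trans (vanishingIdeal_le_of_mem 𝒜 hx))⟩

lemma closure_singleton (x : ProjectiveSpectrum 𝒜) :
    closure ({x} : Set (ProjectiveSpectrum 𝒜)) = zeroLocus 𝒜 (x.asHomogeneousIdeal : Set A) := by
  rw [← zeroLocus_vanishingIdeal_eq_closure, vanishingIdeal_singleton]

lemma closure_genPt {Z : Set (ProjectiveSpectrum 𝒜)} (hZ : IsIrreducible Z) (hc : IsClosed Z) :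
    closure ({genPt 𝒜 hZ} : Set (ProjectiveSpectrum 𝒜)) = Z := by
  rw [closure_singleton]
  change zeroLocus 𝒜 (vanishingIdeal Z : Set A) = Z
  rw [zeroLocus_vanishingIdeal_eq_closure, hc.closure_eq]

lemma genPt_mem {Z : Set (ProjectiveSpectrum 𝒜)} (hZ : IsIrreducible Z) (hc : IsClosed Z) :
    genPt 𝒜 hZ ∈ Z := by
  have h : genPt 𝒜 hZ ∈ closure ({genPt 𝒜 hZ} : Set (ProjectiveSpectrum 𝒜)) :=
    subset_closure rfl
  rw [closure_genPt 𝒜 hZ hc] at h
  exact h

lemma mem_closure_singleton_iff (x y : ProjectiveSpectrum 𝒜) :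
    y ∈ closure ({x} : Set (ProjectiveSpectrum 𝒜)) ↔ x ≤ y :=
  (le_iff_mem_closure 𝒜 x y).symm

instance : QuasiSober (ProjectiveSpectrum 𝒜) where
  sober := fun hZ hc => ⟨genPt 𝒜 hZ, closure_genPt 𝒜 hZ hc⟩

instance : T0Space (ProjectiveSpectrum 𝒜) := by
  rw [t0Space_iff_inseparable]
  intro x y hxy
  rw [inseparable_iff_closure_eq] at hxy
  apply le_antisymm
  · rw [le_iff_mem_closure 𝒜, hxy]; exact subset_closure rfl
  · rw [le_iff_mem_closure 𝒜, ← hxy]; exact subset_closure rfl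

/-- irreducible closed subsets correspond to points, order reversed -/
lemma genPt_le_iff {Z W : Set (ProjectiveSpectrum 𝒜)} (hZ : IsIrreducible Z) (hc : IsClosed Z)
    (hW : IsIrreducible W) (hcW : IsClosed W) :
    genPt 𝒜 hW ≤ genPt 𝒜 hZ ↔ Z ⊆ W := by
  constructor
  · intro h
    rw [← closure_genPt 𝒜 hZ hc, ← closure_genPt 𝒜 hW hcW]
    apply closure_minimal _ isClosed_closure
    rw [Set.singleton_subset_iff, mem_closure_singleton_iff]
    exact h
  · intro h
    rw [← mem_closure_singleton_iff, closure_genPt 𝒜 hW hcW]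
    exact h (genPt_mem 𝒜 hZ hc)

section Subspace

variable (Y : Set (ProjectiveSpectrum 𝒜)) (hY : IsClosed Y)

/-- image in the ambient space of an irreducible closed subset of a closed subspace -/
lemma image_isIrreducible (Z : IrreducibleCloseds ↥Y) :
    IsIrreducible (Subtype.val '' (Z : Set ↥Y)) :=
  Z.isIrreducible.image _ continuous_subtype_val.continuousOn

include hY in
lemma image_isClosed (Z : IrreducibleCloseds ↥Y) :
    IsClosed (Subtype.val '' (Z : Set ↥Y)) :=
  hY.isClosedEmbedding_subtypeVal.isClosedMap _ Z.isClosed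

/-- points of `Y` -/
abbrev Pts : Type _ := {x : ProjectiveSpectrum 𝒜 // x ∈ Y}

include hY in
theorem topologicalKrullDim_le_krullDim_pts :
    topologicalKrullDim ↥Y ≤ Order.krullDim (Pts 𝒜 Y) := by
  rw [← Order.krullDim_orderDual (α := Pts 𝒜 Y)]
  unfold topologicalKrullDim
  let f : IrreducibleCloseds ↥Y → (Pts 𝒜 Y)ᵒᵈ := fun Z =>
    OrderDual.toDual ⟨genPt 𝒜 (image_isIrreducible 𝒜 Y Z), by
      have h := genPt_mem 𝒜 (image_isIrreducible 𝒜 Y Z) (image_isClosed 𝒜 Y hY Z)
      obtain ⟨y, _, hy⟩ := h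
      rw [← hy]
      exact y.2⟩
  apply Order.krullDim_le_of_strictMono f
  intro Z W hZW
  change (⟨genPt 𝒜 (image_isIrreducible 𝒜 Y W), _⟩ : Pts 𝒜 Y) <
    ⟨genPt 𝒜 (image_isIrreducible 𝒜 Y Z), _⟩
  rw [Subtype.mk_lt_mk, lt_iff_le_not_ge,
    genPt_le_iff 𝒜 (image_isIrreducible 𝒜 Y Z) (image_isClosed 𝒜 Y hY Z)
      (image_isIrreducible 𝒜 Y W) (image_isClosed 𝒜 Y hY W),
    genPt_le_iff 𝒜 (image_isIrreducible 𝒜 Y W) (image_isClosed 𝒜 Y hY W)
      (image_isIrreducible 𝒜 Y Z) (image_isClosed 𝒜 Y hY Z)]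
  refine ⟨Set.image_mono hZW.le, fun h => ?_⟩
  apply not_le_of_gt hZW
  intro w hw
  obtain ⟨z, hz, hzw⟩ := h ⟨w, hw, rfl⟩
  rw [Subtype.val_injective hzw] at hz
  exact hz

theorem krullDim_pts_le_topologicalKrullDim :
    Order.krullDim (Pts 𝒜 Y) ≤ topologicalKrullDim ↥Y := by
  rw [← Order.krullDim_orderDual (α := Pts 𝒜 Y)]
  unfold topologicalKrullDim
  let g : (Pts 𝒜 Y)ᵒᵈ → IrreducibleCloseds ↥Y := fun x =>
    ⟨closure {OrderDual.ofDual x}, isIrreducible_singleton.closure, isClosed_closure⟩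
  have hmem : ∀ x y : Pts 𝒜 Y, x ∈ closure ({y} : Set ↥Y) ↔ y.1 ≤ x.1 := by
    intro x y
    rw [← mem_closure_singleton_iff, closure_subtype, Set.image_singleton]
  apply Order.krullDim_le_of_strictMono g
  intro x y hxy
  have hxy' : OrderDual.ofDual y < OrderDual.ofDual x := hxy
  rw [lt_iff_le_not_ge]
  constructor
  · change closure {OrderDual.ofDual x} ⊆ closure {OrderDual.ofDual y}
    apply closure_minimal _ isClosed_closure
    rw [Set.singleton_subset_iff, hmem]
    exact hxy'.le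
  · intro h
    have h2 : closure {OrderDual.ofDual y} ⊆ closure {OrderDual.ofDual x} := h
    have h3 : OrderDual.ofDual y ∈ closure ({OrderDual.ofDual x} : Set ↥Y) :=
      h2 (subset_closure rfl)
    rw [hmem] at h3
    exact not_le_of_gt hxy' h3

include hY in
theorem topologicalKrullDim_eq_krullDim_pts :
    topologicalKrullDim ↥Y = Order.krullDim (Pts 𝒜 Y) :=
  le_antisymm (topologicalKrullDim_le_krullDim_pts 𝒜 Y hY)
    (krullDim_pts_le_topologicalKrullDim 𝒜 Y)

end Subspace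

end Groth.Agent.Lib.Helper6.ProjDim
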