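import Mathlib
import Groth.Prelude.Def_CohB1
import Groth.Agent.Lib.Helper4.DimFT1
import Groth.Agent.Lib.Helper6.ProjDim.Sober
import Groth.Agent.Lib.Helper6.ProjDim.Homog

set_option linter.unusedSectionVars false
set_option linter.unusedVariables false
set_option autoImplicit false
set_option maxHeartbeats 400000

noncomputable section

namespace Groth.Agent.Lib.Helper6.ProjDim

open DirectSum

universe u

section DQ

variable {k : Type u} [Field k] {A : Type u} [CommRing A] [Algebra k A] [Algebra.FiniteType k A]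

/-- dimension of the quotient -/
def dq (p : Ideal A) : WithBot ℕ∞ := ringKrullDim (A ⧸ p)

include k in
lemma dq_nat (p : Ideal A) [p.IsPrime] : ∃ d : ℕ, dq p = d := by
  obtain ⟨d, -, hd⟩ := Groth.Agent.Lib.Helper4.DimFT1.exists_dim_eq_trdeg k (A ⧸ p)
  exact ⟨d, hd⟩

include k in
lemma dq_formula {p q : Ideal A} [hp : p.IsPrime] [hq : q.IsPrime] (hpq : p ≤ q) :
    ((q.map (Ideal.Quotient.mk p)).height : WithBot ℕ∞) + dq q = dq p := by
  haveI : (q.map (Ideal.Quotient.mk p)).IsPrime := Ideal.isPrime_map_quotientMk_of_isPrime hpq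
  have h := Groth.Agent.Lib.Helper4.DimFT1.height_add_dim_quotient k (A ⧸ p)
    (q.map (Ideal.Quotient.mk p))
  have h2 : ringKrullDim ((A ⧸ p) ⧸ q.map (Ideal.Quotient.mk p)) = ringKrullDim (A ⧸ q) :=
    ringKrullDim_eq_of_ringEquiv (DoubleQuot.quotQuotEquivQuotOfLE hpq)
  rw [h2] at h
  exact h

include k in
/-- strict monotonicity -/
lemma dq_add_one_le {p q : Ideal A} [hp : p.IsPrime] [hq : q.IsPrime] (hpq : p < q) :
    dq q + 1 ≤ dq p := by
  haveI : (q.map (Ideal.Quotient.mk p)).IsPrime := Ideal.isPrime_map_quotientMk_of_isPrime hpq.le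
  rw [← dq_formula (k := k) hpq.le, add_comm]
  gcongr
  have hne : (⊥ : Ideal (A ⧸ p)) < q.map (Ideal.Quotient.mk p) := by
    rw [bot_lt_iff_ne_bot]
    intro h
    obtain ⟨x, hxq, hxp⟩ := Set.exists_of_ssubset hpq
    have : Ideal.Quotient.mk p x ∈ q.map (Ideal.Quotient.mk p) := Ideal.mem_map_of_mem _ hxq
    rw [h, Ideal.mem_bot, Ideal.Quotient.eq_zero_iff_mem] at this
    exact hxp this
  haveI : (⊥ : Ideal (A ⧸ p)).IsPrime := Ideal.isPrime_bot
  have h1 := Ideal.height_add_one_le_of_lt_of_isPrime hne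
  have h2 : (1 : ℕ∞) ≤ (q.map (Ideal.Quotient.mk p)).height := le_trans (by simp) h1
  exact_mod_cast h2

include k in
lemma dq_le_of_le {p q : Ideal A} [hp : p.IsPrime] [hq : q.IsPrime] (hpq : p ≤ q) :
    dq q ≤ dq p := by
  rw [← dq_formula (k := k) hpq]
  exact le_add_of_nonneg_left (WithBot.coe_nonneg.2 zero_le)

include k in
/-- Krull's height theorem in the form of dimensions of quotients -/
lemma dq_le_add_card [IsNoetherianRing A] {p q : Ideal A} [hp : p.IsPrime] [hq : q.IsPrime]
    (s : Finset A)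
    (hmin : q ∈ (p ⊔ Ideal.span (s : Set A)).minimalPrimes) :
    dq p ≤ dq q + (s.card : WithBot ℕ∞) := by
  classical
  have hpq : p ≤ q := le_sup_left.trans hmin.1.2
  haveI : (q.map (Ideal.Quotient.mk p)).IsPrime := Ideal.isPrime_map_quotientMk_of_isPrime hpq
  rw [← dq_formula (k := k) hpq, add_comm]
  gcongr
  have hmem : q.map (Ideal.Quotient.mk p) ∈
      ((Ideal.span (s : Set A)).map (Ideal.Quotient.mk p)).minimalPrimes := by
    rw [Ideal.minimalPrimes_map_of_surjective Ideal.Quotient.mk_surjective, Ideal.mk_ker]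
    refine ⟨q, ?_, rfl⟩
    rw [sup_comm]
    exact hmin
  rw [Ideal.map_span] at hmem
  have himg : (Ideal.Quotient.mk p '' (s : Set A)) = ((s.image (Ideal.Quotient.mk p) : Finset (A ⧸ p)) : Set (A ⧸ p)) := by
    rw [Finset.coe_image]
  rw [himg] at hmem
  have h1 := Ideal.height_le_card_of_mem_minimalPrimes_span_finset hmem
  have h2 : ((s.image (Ideal.Quotient.mk p)).card : ℕ∞) ≤ s.card := by
    exact_mod_cast Finset.card_image_le
  exact_mod_cast h1.trans h2

include k in
/-- a minimal prime over `p + (f)` with `f ∉ p` drops the dimension by exactly one -/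
lemma dq_add_one_eq [IsNoetherianRing A] {p q : Ideal A} [hp : p.IsPrime] [hq : q.IsPrime]
    (f : A) (hf : f ∉ p)
    (hmin : q ∈ (p ⊔ Ideal.span {f}).minimalPrimes) :
    dq q + 1 = dq p := by
  have hpq : p ≤ q := le_sup_left.trans hmin.1.2
  have hfq : f ∈ q := hmin.1.2 (Ideal.mem_sup_right (Ideal.subset_span rfl))
  have hlt : p < q := lt_of_le_of_ne hpq (fun h => hf (h ▸ hfq))
  apply le_antisymm (dq_add_one_le (k := k) hlt)
  have := dq_le_add_card (k := k) (p := p) (q := q) {f} (by simpa using hmin)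
  simpa using this

end DQ

section Poly

variable (k : Type u) [Field k] (n : ℕ)

/-- the irrelevant ideal of the polynomial ring -/
abbrev irr : Ideal (MvPolynomial (Fin (n + 1)) k) :=
  (HomogeneousIdeal.irrelevant (CohB1.polyGrading n k)).toIdeal

instance irr_isMaximal : (irr k n).IsMaximal := irrelevant_isMaximal (zeroField_poly k n)

lemma dq_bot : dq (⊥ : Ideal (MvPolynomial (Fin (n + 1)) k)) = ((n + 1 : ℕ) : WithBot ℕ∞) := by
  unfold dq
  rw [ringKrullDim_eq_of_ringEquiv (RingEquiv.quotientBot (MvPolynomial (Fin (n + 1)) k)),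
    MvPolynomial.ringKrullDim_of_isNoetherianRing, ringKrullDim_eq_zero_of_field, zero_add,
    Nat.card_fin]

lemma dq_irr : dq (irr k n) = 0 := by
  unfold dq
  exact ringKrullDim_eq_zero_of_isField
    ((Ideal.Quotient.maximal_ideal_iff_isField_quotient _).1 (irr_isMaximal k n))

variable {k n}

/-- the ideal of a point -/
abbrev idl (x : ProjectiveSpectrum (CohB1.polyGrading n k)) :
    Ideal (MvPolynomial (Fin (n + 1)) k) := x.asHomogeneousIdeal.toIdeal

lemma idl_le_irr (x : ProjectiveSpectrum (CohB1.polyGrading n k)) : idl x ≤ irr k n :=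
  le_irrelevant_of_isHomogeneous (zeroField_poly k n) x.asHomogeneousIdeal.isHomogeneous
    x.isPrime.ne_top

lemma idl_lt_irr (x : ProjectiveSpectrum (CohB1.polyGrading n k)) : idl x < irr k n := by
  refine lt_of_le_of_ne (idl_le_irr x) ?_
  intro h
  apply x.not_irrelevant_le
  intro a ha
  have : a ∈ irr k n := ha
  rw [← h] at this
  exact this

lemma one_le_dq (x : ProjectiveSpectrum (CohB1.polyGrading n k)) : 1 ≤ dq (idl x) := by
  have h := dq_add_one_le (k := k) (idl_lt_irr x)
  rw [dq_irr, zero_add] at h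
  exact h

/-- build a point from a homogeneous prime different from the irrelevant ideal -/
def mkPt (q : Ideal (MvPolynomial (Fin (n + 1)) k)) (hq : q.IsHomogeneous (CohB1.polyGrading n k))
    (hp : q.IsPrime) (hne : q ≠ irr k n) : ProjectiveSpectrum (CohB1.polyGrading n k) :=
  ⟨⟨q, hq⟩, hp, (relevant_iff_ne (zeroField_poly k n) hp).2 hne⟩

lemma exists_hom_notMem {p : Ideal (MvPolynomial (Fin (n + 1)) k)} (hlt : p < irr k n) :
    ∃ f ∈ irr k n, SetLike.IsHomogeneousElem (CohB1.polyGrading n k) f ∧ f ∉ p := by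
  by_contra hcon
  push Not at hcon
  apply not_le_of_gt hlt
  intro g hg
  classical
  rw [← DirectSum.sum_support_decompose (CohB1.polyGrading n k) g]
  refine Ideal.sum_mem _ fun i _ => ?_
  apply hcon
  · exact (HomogeneousIdeal.irrelevant (CohB1.polyGrading n k)).isHomogeneous i hg
  · exact ⟨i, SetLike.coe_mem _⟩

lemma exists_cover (x : ProjectiveSpectrum (CohB1.polyGrading n k)) :
    ∃ q : Ideal (MvPolynomial (Fin (n + 1)) k), q.IsPrime ∧
      q.IsHomogeneous (CohB1.polyGrading n k) ∧ idl x < q ∧ dq q + 1 = dq (idl x) := by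
  obtain ⟨f, hfi, hfh, hfp⟩ := exists_hom_notMem (idl_lt_irr x)
  have hle : idl x ⊔ Ideal.span {f} ≤ irr k n :=
    sup_le (idl_le_irr x) ((Ideal.span_singleton_le_iff_mem _).2 hfi)
  obtain ⟨q, hq, hqi⟩ := Ideal.exists_minimalPrimes_le hle
  have hqp : q.IsPrime := hq.1.1
  have hhom : (idl x ⊔ Ideal.span {f}).IsHomogeneous (CohB1.polyGrading n k) :=
    x.asHomogeneousIdeal.isHomogeneous.sup
      ((Ideal.homogeneous_span (CohB1.polyGrading n k) {f}) (by
        intro y hy
        rw [Set.mem_singleton_iff] at hy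
        rw [hy]
        exact hfh))
  refine ⟨q, hqp, isHomogeneous_of_mem_minimalPrimes _ hhom hq, ?_, ?_⟩
  · have hfq : f ∈ q := hq.1.2 (Ideal.mem_sup_right (Ideal.subset_span rfl))
    exact lt_of_le_of_ne (le_sup_left.trans hq.1.2) (fun h => hfp (h ▸ hfq))
  · exact dq_add_one_eq (k := k) f hfp hq

theorem coheight_formula : ∀ (d : ℕ) (x : ProjectiveSpectrum (CohB1.polyGrading n k)),
    dq (idl x) = ((d + 1 : ℕ) : WithBot ℕ∞) → Order.coheight x = d := by
  intro d
  induction d using Nat.strong_induction_on with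
  | _ d ih =>
    intro x hx
    apply le_antisymm
    · rw [Order.coheight_le_coe_iff]
      intro y hy
      have hlt : idl x < idl y := hy
      have h1 := dq_add_one_le (k := k) hlt
      obtain ⟨e, he⟩ := dq_nat (k := k) (idl y)
      have h2 := one_le_dq y
      rw [he] at h1 h2
      rw [hx] at h1
      have h1' : e + 1 ≤ d + 1 := by exact_mod_cast h1
      have h2' : 1 ≤ e := by exact_mod_cast h2
      obtain ⟨e', rfl⟩ : ∃ e', e = e' + 1 := ⟨e - 1, by omega⟩
      have := ih e' (by omega) y (by rw [he])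
      rw [this]
      exact_mod_cast (by omega : e' < d)
    · rcases Nat.eq_zero_or_pos d with rfl | hd
      · simp
      · obtain ⟨q, hqp, hqh, hlt, hdq⟩ := exists_cover x
        rw [hx] at hdq
        obtain ⟨e, he⟩ := dq_nat (k := k) q
        rw [he] at hdq
        have he' : e = d := by
          have : e + 1 = d + 1 := by exact_mod_cast hdq
          omega
        have hne : q ≠ irr k n := by
          intro h
          rw [h, dq_irr] at he
          have : (0 : ℕ) = e := by exact_mod_cast he
          omega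
        let y := mkPt q hqh hqp hne
        have hxy : x < y := hlt
        obtain ⟨d', rfl⟩ : ∃ d', d = d' + 1 := ⟨d - 1, by omega⟩
        have hy : Order.coheight y = d' := ih d' (by omega) y (by
          change dq q = _
          rw [he, he'])
        have := Order.coheight_add_one_le hxy
        rw [hy] at this
        exact_mod_cast this

theorem coheight_add_one (x : ProjectiveSpectrum (CohB1.polyGrading n k)) :
    ((Order.coheight x : ℕ∞) : WithBot ℕ∞) + 1 = dq (idl x) := by
  obtain ⟨e, he⟩ := dq_nat (k := k) (idl x)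
  have h2 := one_le_dq x
  rw [he] at h2
  have h2' : 1 ≤ e := by exact_mod_cast h2
  obtain ⟨e', rfl⟩ : ∃ e', e = e' + 1 := ⟨e - 1, by omega⟩
  rw [coheight_formula e' x he, he]
  rfl

end Poly

end Groth.Agent.Lib.Helper6.ProjDim
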