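import Mathlib
import Groth.Prelude.Def_CohB1
import Groth.Agent.Lib.Helper6.ProjDim.Dim

set_option linter.unusedSectionVars false
set_option linter.unusedVariables false
set_option autoImplicit false
set_option maxHeartbeats 400000

noncomputable section

namespace Groth.Agent.Lib.Helper6.ProjDim

open ProjectiveSpectrum TopologicalSpace

section General

variable {A σ : Type*} [CommRing A] [SetLike σ A] [AddSubmonoidClass σ A]
variable (𝒜 : ℕ → σ) [GradedRing 𝒜]

lemma Ici_eq_closure (ξ : ProjectiveSpectrum 𝒜) :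
    Set.Ici ξ = closure ({ξ} : Set (ProjectiveSpectrum 𝒜)) := by
  ext y
  rw [Set.mem_Ici, mem_closure_singleton_iff]

lemma isClosed_Ici (ξ : ProjectiveSpectrum 𝒜) : IsClosed (Set.Ici ξ) := by
  rw [Ici_eq_closure]; exact isClosed_closure

lemma isIrreducible_Ici (ξ : ProjectiveSpectrum 𝒜) : IsIrreducible (Set.Ici ξ) := by
  rw [Ici_eq_closure]; exact isIrreducible_singleton.closure

lemma exists_eq_Ici {X : Set (ProjectiveSpectrum 𝒜)} (hXc : IsClosed X) (hXi : IsIrreducible X) :
    ∃ ξ : ProjectiveSpectrum 𝒜, X = Set.Ici ξ :=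
  ⟨genPt 𝒜 hXi, by rw [Ici_eq_closure, closure_genPt 𝒜 hXi hXc]⟩

theorem dim_Ici (ξ : ProjectiveSpectrum 𝒜) :
    topologicalKrullDim ↥(Set.Ici ξ) = ((Order.coheight ξ : ℕ∞) : WithBot ℕ∞) := by
  rw [topologicalKrullDim_eq_krullDim_pts 𝒜 _ (isClosed_Ici 𝒜 ξ), Order.coheight_eq_krullDim_Ici]

lemma zeroLocus_eq (s : Set A) :
    zeroLocus 𝒜 s = {y | Ideal.span s ≤ y.asHomogeneousIdeal.toIdeal} := by
  ext y
  rw [mem_zeroLocus, Set.mem_setOf_eq, Ideal.span_le]
  rfl

/-- an irreducible component of a closed subspace has a generic point which is minimal -/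
theorem exists_component_pt (Y : Set (ProjectiveSpectrum 𝒜)) (hY : IsClosed Y)
    (C : Set ↥Y) (hC : C ∈ irreducibleComponents ↥Y) :
    ∃ η : ProjectiveSpectrum 𝒜, η ∈ Y ∧ (∀ y ∈ Y, y ≤ η → y = η) ∧
      topologicalKrullDim ↥C = ((Order.coheight η : ℕ∞) : WithBot ℕ∞) := by
  have hCc : IsClosed C := isClosed_of_mem_irreducibleComponents C hC
  have hCi : IsIrreducible C := hC.1
  have hC'c : IsClosed (Subtype.val '' C) := hY.isClosedEmbedding_subtypeVal.isClosedMap _ hCc
  have hC'i : IsIrreducible (Subtype.val '' C) := hCi.image _ continuous_subtype_val.continuousOn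
  obtain ⟨η, hη⟩ := exists_eq_Ici 𝒜 hC'c hC'i
  have hηmem : η ∈ Subtype.val '' C := by rw [hη]; exact Set.mem_Ici.2 le_rfl
  have hηY : η ∈ Y := by
    obtain ⟨c, _, hc⟩ := hηmem
    rw [← hc]; exact c.2
  refine ⟨η, hηY, ?_, ?_⟩
  · intro y hy hyη
    -- closure of y in Y is irreducible and contains C
    have hD : IsIrreducible (closure ({⟨y, hy⟩} : Set ↥Y)) := isIrreducible_singleton.closure
    have hmemD : ∀ z : ↥Y, z ∈ closure ({⟨y, hy⟩} : Set ↥Y) ↔ y ≤ z.1 := by
      intro z
      rw [closure_subtype, Set.image_singleton, mem_closure_singleton_iff]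
    have hsub : C ⊆ closure ({⟨y, hy⟩} : Set ↥Y) := by
      intro c hc
      rw [hmemD]
      have : c.1 ∈ Subtype.val '' C := ⟨c, hc, rfl⟩
      rw [hη] at this
      exact hyη.trans (Set.mem_Ici.1 this)
    have hsub2 : closure ({⟨y, hy⟩} : Set ↥Y) ⊆ C := hC.2 hD hsub
    have hyC : (⟨y, hy⟩ : ↥Y) ∈ C := hsub2 (subset_closure rfl)
    have : y ∈ Subtype.val '' C := ⟨⟨y, hy⟩, hyC, rfl⟩
    rw [hη] at this
    exact le_antisymm hyη (Set.mem_Ici.1 this)
  · have hhom : ↥C ≃ₜ ↥(Subtype.val '' C) :=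
      Topology.IsEmbedding.subtypeVal.homeomorphImage C
    rw [IsHomeomorph.topologicalKrullDim_eq hhom hhom.isHomeomorph]
    have key : ∀ (W : Set (ProjectiveSpectrum 𝒜)), W = Set.Ici η →
        topologicalKrullDim ↥W = ((Order.coheight η : ℕ∞) : WithBot ℕ∞) := by
      intro W hW
      subst hW
      exact dim_Ici 𝒜 η
    exact key _ hη

end General

section Poly

universe u

variable {k : Type u} [Field k] {n : ℕ}

/-- a point minimal among those containing a homogeneous ideal is a minimal prime -/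
lemma mem_minimalPrimes_of_minimal_pt {I : Ideal (MvPolynomial (Fin (n + 1)) k)}
    (hI : I.IsHomogeneous (CohB1.polyGrading n k))
    (η : ProjectiveSpectrum (CohB1.polyGrading n k)) (hle : I ≤ idl η)
    (hmin : ∀ y : ProjectiveSpectrum (CohB1.polyGrading n k), I ≤ idl y → y ≤ η → y = η) :
    idl η ∈ I.minimalPrimes := by
  obtain ⟨q, hq, hqη⟩ := Ideal.exists_minimalPrimes_le hle
  have hqp := hq.1.1
  have hqh := isHomogeneous_of_mem_minimalPrimes _ hI hq
  have hne : q ≠ irr k n := fun h => not_le_of_gt (idl_lt_irr η) (h ▸ hqη)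
  have := hmin (mkPt q hqh hqp hne) hq.1.2 hqη
  have h2 : idl η = q := by rw [← this]; rfl
  rw [h2]
  exact hq

/-- the generic point of projective space -/
def botPt : ProjectiveSpectrum (CohB1.polyGrading n k) :=
  mkPt (⊥ : Ideal (MvPolynomial (Fin (n + 1)) k)) (Ideal.IsHomogeneous.bot _) Ideal.isPrime_bot (by
    intro h
    have hX : (MvPolynomial.X 0 : MvPolynomial (Fin (n + 1)) k) ∈ irr k n := by
      apply HomogeneousIdeal.mem_irrelevant_of_mem (CohB1.polyGrading n k) (i := 1) one_pos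
      exact MvPolynomial.isHomogeneous_X k 0
    rw [← h, Ideal.mem_bot] at hX
    exact MvPolynomial.X_ne_zero 0 hX)

lemma botPt_le (y : ProjectiveSpectrum (CohB1.polyGrading n k)) : botPt ≤ y := by
  change (⊥ : Ideal _) ≤ idl y
  exact bot_le

theorem coheight_botPt : Order.coheight (botPt : ProjectiveSpectrum (CohB1.polyGrading n k)) = n := by
  apply coheight_formula n
  change dq (⊥ : Ideal (MvPolynomial (Fin (n + 1)) k)) = _
  rw [dq_bot]

theorem dim_projSpace :
    topologicalKrullDim (ProjectiveSpectrum (CohB1.polyGrading n k)) = (n : WithBot ℕ∞) := by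
  have h1 : topologicalKrullDim (ProjectiveSpectrum (CohB1.polyGrading n k)) =
      topologicalKrullDim ↥(Set.univ : Set (ProjectiveSpectrum (CohB1.polyGrading n k))) :=
    (IsHomeomorph.topologicalKrullDim_eq _
      (Homeomorph.Set.univ (ProjectiveSpectrum (CohB1.polyGrading n k))).isHomeomorph).symm
  have h2 : (Set.univ : Set (ProjectiveSpectrum (CohB1.polyGrading n k))) = Set.Ici botPt := by
    ext y
    simp only [Set.mem_univ, Set.mem_Ici, true_iff]
    exact botPt_le y
  rw [h1, h2, dim_Ici, coheight_botPt]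
  rfl

end Poly

end Groth.Agent.Lib.Helper6.ProjDim
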