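import Mathlib
import Groth.Prelude.Def_CohB1
import Groth.Agent.Lib.Helper6.ProjDim.Top
import Groth.Agent.Lib.Helper4.Cubic

set_option linter.unusedSectionVars false
set_option linter.unusedVariables false
set_option autoImplicit false
set_option maxHeartbeats 400000

noncomputable section

namespace Groth.Agent.Lib.Helper6.ProjDim

open ProjectiveSpectrum TopologicalSpace

universe u

variable {k : Type u} [Field k] {n : ℕ}

lemma coheight_nat (x : ProjectiveSpectrum (CohB1.polyGrading n k)) :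
    ∃ c : ℕ, Order.coheight x = c ∧ dq (idl x) = ((c + 1 : ℕ) : WithBot ℕ∞) := by
  obtain ⟨e, he⟩ := dq_nat (k := k) (idl x)
  have h2 := one_le_dq x
  rw [he] at h2
  have h2' : 1 ≤ e := by exact_mod_cast h2
  obtain ⟨e', rfl⟩ : ∃ e', e = e' + 1 := ⟨e - 1, by omega⟩
  exact ⟨e', coheight_formula e' x he, he⟩

lemma mem_inter_iff (ξ : ProjectiveSpectrum (CohB1.polyGrading n k))
    (s : Set (MvPolynomial (Fin (n + 1)) k)) (y : ProjectiveSpectrum (CohB1.polyGrading n k)) :
    y ∈ Set.Ici ξ ∩ zeroLocus (CohB1.polyGrading n k) s ↔ idl ξ ⊔ Ideal.span s ≤ idl y := by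
  rw [Set.mem_inter_iff, Set.mem_Ici, mem_zeroLocus, sup_le_iff, Ideal.span_le]
  rfl

lemma isHomogeneous_sup_span (ξ : ProjectiveSpectrum (CohB1.polyGrading n k))
    (s : Set (MvPolynomial (Fin (n + 1)) k))
    (hs : ∀ f ∈ s, SetLike.IsHomogeneousElem (CohB1.polyGrading n k) f) :
    (idl ξ ⊔ Ideal.span s).IsHomogeneous (CohB1.polyGrading n k) :=
  ξ.asHomogeneousIdeal.isHomogeneous.sup (Ideal.homogeneous_span (CohB1.polyGrading n k) s hs)

lemma mem_irr_of_isHomogeneous {f : MvPolynomial (Fin (n + 1)) k} {d : ℕ} (hf : f.IsHomogeneous d)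
    (hd : 0 < d) : f ∈ irr k n :=
  HomogeneousIdeal.mem_irrelevant_of_mem (CohB1.polyGrading n k) hd
    ((MvPolynomial.mem_homogeneousSubmodule _ _).2 hf)

theorem S10823_main (r : ℕ)
    (X : Set (ProjectiveSpectrum (CohB1.polyGrading n k))) (hXc : IsClosed X) (hXi : IsIrreducible X)
    (f : Fin r → MvPolynomial (Fin (n + 1)) k) (d : Fin r → ℕ)
    (hf : ∀ i, (f i).IsHomogeneous (d i)) (hd : ∀ i, 0 < d i) :
    (∀ C ∈ irreducibleComponents ↥(X ∩ ProjectiveSpectrum.zeroLocus (CohB1.polyGrading n k) (Set.range f)),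
        topologicalKrullDim ↥X ≤ topologicalKrullDim ↥C + (r : WithBot ℕ∞)) ∧
      ((r : WithBot ℕ∞) ≤ topologicalKrullDim ↥X →
        (X ∩ ProjectiveSpectrum.zeroLocus (CohB1.polyGrading n k) (Set.range f)).Nonempty) := by
  classical
  obtain ⟨ξ, rfl⟩ := exists_eq_Ici _ hXc hXi
  set s : Finset (MvPolynomial (Fin (n + 1)) k) := Finset.univ.image f with hs
  have hsr : (s : Set (MvPolynomial (Fin (n + 1)) k)) = Set.range f := by
    rw [hs, Finset.coe_image, Finset.coe_univ, Set.image_univ]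
  have hcard : s.card ≤ r := by
    have := Finset.card_image_le (s := (Finset.univ : Finset (Fin r))) (f := f)
    simpa using this
  have hhom : (idl ξ ⊔ Ideal.span (Set.range f)).IsHomogeneous (CohB1.polyGrading n k) := by
    apply isHomogeneous_sup_span
    rintro _ ⟨i, rfl⟩
    exact ⟨d i, (MvPolynomial.mem_homogeneousSubmodule _ _).2 (hf i)⟩
  have hle : idl ξ ⊔ Ideal.span (Set.range f) ≤ irr k n := by
    refine sup_le (idl_le_irr ξ) ?_
    rw [Ideal.span_le]
    rintro _ ⟨i, rfl⟩
    exact mem_irr_of_isHomogeneous (hf i) (hd i)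
  obtain ⟨c, hc, hdc⟩ := coheight_nat ξ
  have hYc : IsClosed (Set.Ici ξ ∩ zeroLocus (CohB1.polyGrading n k) (Set.range f)) :=
    (isClosed_Ici _ ξ).inter (isClosed_zeroLocus _ _)
  constructor
  · intro C hC
    obtain ⟨η, hηY, hηmin, hdim⟩ := exists_component_pt _ _ hYc C hC
    rw [hdim, dim_Ici, hc]
    rw [mem_inter_iff] at hηY
    have hmin : idl η ∈ (idl ξ ⊔ Ideal.span (Set.range f)).minimalPrimes := by
      apply mem_minimalPrimes_of_minimal_pt hhom η hηY
      intro y hy hyη
      exact hηmin y ((mem_inter_iff ξ _ y).2 hy) hyη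
    rw [← hsr] at hmin
    have hK := dq_le_add_card (k := k) (p := idl ξ) (q := idl η) s hmin
    obtain ⟨e, he, hde⟩ := coheight_nat η
    rw [hdc, hde] at hK
    rw [he]
    have hK' : c + 1 ≤ e + 1 + s.card := by exact_mod_cast hK
    exact_mod_cast (by omega : c ≤ e + r)
  · intro hr
    rw [dim_Ici, hc] at hr
    have hr' : r ≤ c := by exact_mod_cast hr
    obtain ⟨q, hq, hqi⟩ := Ideal.exists_minimalPrimes_le hle
    have hqp : q.IsPrime := hq.1.1
    have hqh := isHomogeneous_of_mem_minimalPrimes _ hhom hq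
    have hq' : q ∈ (idl ξ ⊔ Ideal.span (s : Set (MvPolynomial (Fin (n + 1)) k))).minimalPrimes := by
      rw [hsr]; exact hq
    have hK := dq_le_add_card (k := k) (p := idl ξ) (q := q) s hq'
    obtain ⟨e, he⟩ := dq_nat (k := k) q
    rw [hdc, he] at hK
    have hK' : c + 1 ≤ e + s.card := by exact_mod_cast hK
    have hne : q ≠ irr k n := by
      intro h
      rw [h, dq_irr] at he
      have : (0 : ℕ) = e := by exact_mod_cast he
      omega
    refine ⟨mkPt q hqh hqp hne, ?_⟩
    rw [mem_inter_iff]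
    exact hq.1.2

theorem S10822_main (d : ℕ)
    (X : Set (ProjectiveSpectrum (CohB1.polyGrading n k))) (hXc : IsClosed X) (hXi : IsIrreducible X)
    (hXd : 0 < topologicalKrullDim ↥X)
    (f : MvPolynomial (Fin (n + 1)) k) (hf : f.IsHomogeneous d)
    (hV : (ProjectiveSpectrum.zeroLocus (CohB1.polyGrading n k)
      ({f} : Set (MvPolynomial (Fin (n + 1)) k))).Nonempty)
    (hX : ¬ X ⊆ ProjectiveSpectrum.zeroLocus (CohB1.polyGrading n k)
      ({f} : Set (MvPolynomial (Fin (n + 1)) k))) :
    (X ∩ ProjectiveSpectrum.zeroLocus (CohB1.polyGrading n k)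
        ({f} : Set (MvPolynomial (Fin (n + 1)) k))).Nonempty ∧
      ∀ C ∈ irreducibleComponents ↥(X ∩ ProjectiveSpectrum.zeroLocus (CohB1.polyGrading n k)
          ({f} : Set (MvPolynomial (Fin (n + 1)) k))),
        topologicalKrullDim ↥C + 1 = topologicalKrullDim ↥X := by
  classical
  obtain ⟨ξ, rfl⟩ := exists_eq_Ici _ hXc hXi
  have hfξ : f ∉ idl ξ := by
    intro h
    apply hX
    intro y hy
    rw [mem_zeroLocus, Set.singleton_subset_iff]
    exact (Set.mem_Ici.1 hy : idl ξ ≤ idl y) h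
  have hfi : f ∈ irr k n := by
    obtain ⟨y, hy⟩ := hV
    rw [mem_zeroLocus, Set.singleton_subset_iff] at hy
    exact idl_le_irr y hy
  have hhom : (idl ξ ⊔ Ideal.span {f}).IsHomogeneous (CohB1.polyGrading n k) := by
    apply isHomogeneous_sup_span
    intro g hg
    rw [Set.mem_singleton_iff] at hg
    rw [hg]
    exact ⟨d, (MvPolynomial.mem_homogeneousSubmodule _ _).2 hf⟩
  have hle : idl ξ ⊔ Ideal.span {f} ≤ irr k n :=
    sup_le (idl_le_irr ξ) ((Ideal.span_singleton_le_iff_mem _).2 hfi)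
  obtain ⟨c, hc, hdc⟩ := coheight_nat ξ
  rw [dim_Ici, hc] at hXd
  have hc0 : 0 < c := by exact_mod_cast hXd
  have hYc : IsClosed (Set.Ici ξ ∩ zeroLocus (CohB1.polyGrading n k) {f}) :=
    (isClosed_Ici _ ξ).inter (isClosed_zeroLocus _ _)
  constructor
  · obtain ⟨q, hq, hqi⟩ := Ideal.exists_minimalPrimes_le hle
    have hqp : q.IsPrime := hq.1.1
    have hqh := isHomogeneous_of_mem_minimalPrimes _ hhom hq
    have hK := dq_add_one_eq (k := k) (p := idl ξ) (q := q) f hfξ hq
    obtain ⟨e, he⟩ := dq_nat (k := k) q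
    rw [hdc, he] at hK
    have hK' : e + 1 = c + 1 := by exact_mod_cast hK
    have hne : q ≠ irr k n := by
      intro h
      rw [h, dq_irr] at he
      have : (0 : ℕ) = e := by exact_mod_cast he
      omega
    refine ⟨mkPt q hqh hqp hne, ?_⟩
    rw [mem_inter_iff]
    exact hq.1.2
  · intro C hC
    obtain ⟨η, hηY, hηmin, hdim⟩ := exists_component_pt _ _ hYc C hC
    rw [hdim, dim_Ici, hc]
    rw [mem_inter_iff] at hηY
    have hmin : idl η ∈ (idl ξ ⊔ Ideal.span {f}).minimalPrimes := by
      apply mem_minimalPrimes_of_minimal_pt hhom η hηY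
      intro y hy hyη
      exact hηmin y ((mem_inter_iff ξ _ y).2 hy) hyη
    have hK := dq_add_one_eq (k := k) (p := idl ξ) (q := idl η) f hfξ hmin
    obtain ⟨e, he, hde⟩ := coheight_nat η
    rw [hdc, hde] at hK
    rw [he]
    have hK' : e + 1 + 1 = c + 1 := by exact_mod_cast hK
    exact_mod_cast (by omega : e + 1 = c)

lemma totalDegree_pos_of_not_isUnit {a : MvPolynomial (Fin (n + 1)) k} (ha0 : a ≠ 0)
    (hau : ¬ IsUnit a) : 0 < a.totalDegree := by
  by_contra h
  have h0 : a.totalDegree = 0 := by omega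
  apply hau
  rw [MvPolynomial.isUnit_iff_totalDegree_of_isReduced]
  refine ⟨?_, h0⟩
  have := MvPolynomial.totalDegree_eq_zero_iff_eq_C.1 h0
  apply IsUnit.mk0
  intro hc
  apply ha0
  rw [this, hc, map_zero]

lemma hom_of_mul {p q g : MvPolynomial (Fin (n + 1)) k} {m : ℕ} (hg : g.IsHomogeneous m)
    (hg0 : g ≠ 0) (hpq : p * q = g) :
    p.IsHomogeneous p.totalDegree ∧ q.IsHomogeneous q.totalDegree :=
  ⟨Groth.Agent.Lib.Helper4.Cubic.isHomogeneous_of_mul_eq hg hg0 hpq,
    Groth.Agent.Lib.Helper4.Cubic.isHomogeneous_of_mul_eq hg hg0 ((mul_comm q p).trans hpq)⟩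

/-- the point of a homogeneous prime element -/
lemma prime_pt {p : MvPolynomial (Fin (n + 1)) k} (hp : Prime p)
    (hph : p.IsHomogeneous p.totalDegree) (hn : 1 ≤ n) :
    ∃ ξ : ProjectiveSpectrum (CohB1.polyGrading n k), idl ξ = Ideal.span {p} ∧
      Order.coheight ξ = ((n - 1 : ℕ) : ℕ∞) ∧
      zeroLocus (CohB1.polyGrading n k) {p} = Set.Ici ξ := by
  have hqp : (Ideal.span {p}).IsPrime := (Ideal.span_singleton_prime hp.ne_zero).2 hp
  have hqh : (Ideal.span {p}).IsHomogeneous (CohB1.polyGrading n k) := by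
    apply Ideal.homogeneous_span
    intro g hg
    rw [Set.mem_singleton_iff] at hg
    rw [hg]
    exact ⟨_, (MvPolynomial.mem_homogeneousSubmodule _ _).2 hph⟩
  have hmin : Ideal.span {p} ∈ ((⊥ : Ideal (MvPolynomial (Fin (n + 1)) k)) ⊔
      Ideal.span {p}).minimalPrimes := by
    rw [bot_sup_eq, Ideal.minimalPrimes_eq_subsingleton_self]
    rfl
  haveI : (⊥ : Ideal (MvPolynomial (Fin (n + 1)) k)).IsPrime := Ideal.isPrime_bot
  have hK := dq_add_one_eq (k := k) (p := (⊥ : Ideal (MvPolynomial (Fin (n + 1)) k)))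
    (q := Ideal.span {p}) p (by rw [Ideal.mem_bot]; exact hp.ne_zero) hmin
  rw [dq_bot] at hK
  obtain ⟨e, he⟩ := dq_nat (k := k) (Ideal.span {p})
  rw [he] at hK
  have hK' : e + 1 = n + 1 := by exact_mod_cast hK
  have hne : Ideal.span {p} ≠ irr k n := by
    intro h
    rw [h, dq_irr] at he
    have : (0 : ℕ) = e := by exact_mod_cast he
    omega
  refine ⟨mkPt _ hqh hqp hne, rfl, ?_, ?_⟩
  · apply coheight_formula (n - 1)
    change dq (Ideal.span {p}) = _
    rw [he]
    congr 1
    omega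
  · ext y
    rw [mem_zeroLocus, Set.mem_Ici, Set.singleton_subset_iff]
    change p ∈ idl y ↔ Ideal.span {p} ≤ idl y
    rw [Ideal.span_singleton_le_iff_mem]

theorem S10820_main (d : ℕ) (hn : 2 ≤ n)
    (f : MvPolynomial (Fin (n + 1)) k) (hf : f.IsHomogeneous d) (hd : 0 < d) (hf0 : f ≠ 0) :
    IsConnected (ProjectiveSpectrum.zeroLocus (CohB1.polyGrading n k)
      ({f} : Set (MvPolynomial (Fin (n + 1)) k))) := by
  have key : ∀ g : MvPolynomial (Fin (n + 1)) k, g ≠ 0 → g.IsHomogeneous g.totalDegree →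
      ¬ IsUnit g → IsConnected (ProjectiveSpectrum.zeroLocus (CohB1.polyGrading n k)
        ({g} : Set (MvPolynomial (Fin (n + 1)) k))) := by
    intro g
    induction g using UniqueFactorizationMonoid.induction_on_prime with
    | h₁ => intro h; exact absurd rfl h
    | h₂ x hx => intro _ _ h; exact absurd hx h
    | h₃ a p ha hp ih =>
      intro hpa hhom _
      obtain ⟨hph, hah⟩ := hom_of_mul hhom hpa rfl
      obtain ⟨ξ, hξ, hcξ, hVξ⟩ := prime_pt hp hph (by omega)
      have hconn : IsConnected (zeroLocus (CohB1.polyGrading n k)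
          ({p} : Set (MvPolynomial (Fin (n + 1)) k))) := by
        rw [hVξ]
        exact (isIrreducible_Ici _ ξ).isConnected
      by_cases hau : IsUnit a
      · have : zeroLocus (CohB1.polyGrading n k) ({p * a} : Set (MvPolynomial (Fin (n + 1)) k)) =
            zeroLocus (CohB1.polyGrading n k) {p} := by
          ext y
          rw [mem_zeroLocus, mem_zeroLocus, Set.singleton_subset_iff, Set.singleton_subset_iff]
          change p * a ∈ idl y ↔ p ∈ idl y
          constructor
          · intro h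
            rcases (y.isPrime.mem_or_mem h) with h | h
            · exact h
            · exact absurd (Ideal.eq_top_of_isUnit_mem _ h hau) y.isPrime.ne_top
          · intro h
            exact Ideal.mul_mem_right _ _ h
        rw [this]
        exact hconn
      · rw [zeroLocus_singleton_mul]
        have hia := ih ha hah hau
        refine IsConnected.union ?_ hconn hia
        -- the intersection is nonempty
        have hpos := totalDegree_pos_of_not_isUnit ha hau
        have h := (S10823_main (k := k) (n := n) 1 (Set.Ici ξ) (isClosed_Ici _ ξ)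
          (isIrreducible_Ici _ ξ) (fun _ => a) (fun _ => a.totalDegree) (fun _ => hah)
          (fun _ => hpos)).2
        rw [dim_Ici, hcξ] at h
        have h1 : ((1 : ℕ) : WithBot ℕ∞) ≤ (((n - 1 : ℕ) : ℕ∞) : WithBot ℕ∞) := by
          exact_mod_cast (by omega : 1 ≤ n - 1)
        have h2 := h h1
        rw [Set.range_const] at h2
        rw [hVξ]
        exact h2
  have hfd : f.totalDegree = d := hf.totalDegree hf0
  apply key f hf0 (hfd ▸ hf)
  intro hu
  rw [MvPolynomial.isUnit_iff_totalDegree_of_isReduced] at hu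
  omega

section IrrEquiv

variable {A σ : Type*} [CommRing A] [SetLike σ A] [AddSubmonoidClass σ A]
variable (𝒜 : ℕ → σ) [GradedRing 𝒜]

lemma genPt_Ici (x : ProjectiveSpectrum 𝒜) : genPt 𝒜 (isIrreducible_Ici 𝒜 x) = x := by
  apply ProjectiveSpectrum.ext
  change vanishingIdeal (Set.Ici x) = x.asHomogeneousIdeal
  rw [Ici_eq_closure, vanishingIdeal_closure, vanishingIdeal_singleton]

/-- irreducible closed subsets correspond to points, with the order reversed -/
def irrEquiv : IrreducibleCloseds (ProjectiveSpectrum 𝒜) ≃o (ProjectiveSpectrum 𝒜)ᵒᵈ where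
  toFun Z := OrderDual.toDual (genPt 𝒜 Z.isIrreducible)
  invFun x := ⟨Set.Ici (OrderDual.ofDual x), isIrreducible_Ici 𝒜 _, isClosed_Ici 𝒜 _⟩
  left_inv Z := by
    apply IrreducibleCloseds.ext
    change Set.Ici (genPt 𝒜 Z.isIrreducible) = (Z : Set _)
    rw [Ici_eq_closure, closure_genPt 𝒜 Z.isIrreducible Z.isClosed]
  right_inv x := by
    change OrderDual.toDual (genPt 𝒜 (isIrreducible_Ici 𝒜 (OrderDual.ofDual x))) = x
    rw [genPt_Ici]
    rfl
  map_rel_iff' := by
    intro Z W
    change genPt 𝒜 W.isIrreducible ≤ genPt 𝒜 Z.isIrreducible ↔ Z ≤ W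
    rw [genPt_le_iff 𝒜 Z.isIrreducible Z.isClosed W.isIrreducible W.isClosed]
    rfl

lemma coheight_irreducibleCloseds (Z : IrreducibleCloseds (ProjectiveSpectrum 𝒜)) :
    Order.coheight Z = Order.height (genPt 𝒜 Z.isIrreducible) := by
  rw [← Order.coheight_orderIso (irrEquiv 𝒜) Z]
  rfl

end IrrEquiv

lemma eq_bot_of_lt_span_prime {f : MvPolynomial (Fin (n + 1)) k} (hf : Prime f)
    {q : Ideal (MvPolynomial (Fin (n + 1)) k)} [hq : q.IsPrime] (hlt : q < Ideal.span {f}) :
    q = ⊥ := by
  haveI hfp : (Ideal.span {f}).IsPrime := (Ideal.span_singleton_prime hf.ne_zero).2 hf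
  haveI : (⊥ : Ideal (MvPolynomial (Fin (n + 1)) k)).IsPrime := Ideal.isPrime_bot
  by_contra hne
  have hbot : (⊥ : Ideal (MvPolynomial (Fin (n + 1)) k)) < q := bot_lt_iff_ne_bot.2 hne
  have hmin : Ideal.span {f} ∈ ((⊥ : Ideal (MvPolynomial (Fin (n + 1)) k)) ⊔
      Ideal.span {f}).minimalPrimes := by
    rw [bot_sup_eq, Ideal.minimalPrimes_eq_subsingleton_self]
    rfl
  have hK := dq_add_one_eq (k := k) (p := (⊥ : Ideal (MvPolynomial (Fin (n + 1)) k)))
    (q := Ideal.span {f}) f (by rw [Ideal.mem_bot]; exact hf.ne_zero) hmin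
  have h1 := dq_add_one_le (k := k) hlt
  have h2 := dq_add_one_le (k := k) hbot
  obtain ⟨a, ha⟩ := dq_nat (k := k) (Ideal.span {f})
  obtain ⟨b, hb⟩ := dq_nat (k := k) q
  obtain ⟨c, hc⟩ := dq_nat (k := k) (⊥ : Ideal (MvPolynomial (Fin (n + 1)) k))
  rw [ha, hc] at hK
  rw [ha, hb] at h1
  rw [hb, hc] at h2
  have hK' : a + 1 = c := by exact_mod_cast hK
  have h1' : a + 1 ≤ b := by exact_mod_cast h1
  have h2' : b + 1 ≤ c := by exact_mod_cast h2
  omega

lemma prime_pt' {p : MvPolynomial (Fin (n + 1)) k} (hp : Prime p)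
    (hph : p.IsHomogeneous p.totalDegree) (hne : Ideal.span {p} ≠ irr k n) :
    ∃ ξ : ProjectiveSpectrum (CohB1.polyGrading n k), idl ξ = Ideal.span {p} ∧
      zeroLocus (CohB1.polyGrading n k) {p} = Set.Ici ξ := by
  have hqp : (Ideal.span {p}).IsPrime := (Ideal.span_singleton_prime hp.ne_zero).2 hp
  have hqh : (Ideal.span {p}).IsHomogeneous (CohB1.polyGrading n k) := by
    apply Ideal.homogeneous_span
    intro g hg
    rw [Set.mem_singleton_iff] at hg
    rw [hg]
    exact ⟨_, (MvPolynomial.mem_homogeneousSubmodule _ _).2 hph⟩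
  refine ⟨mkPt _ hqh hqp hne, rfl, ?_⟩
  ext y
  rw [mem_zeroLocus, Set.mem_Ici, Set.singleton_subset_iff]
  change p ∈ idl y ↔ Ideal.span {p} ≤ idl y
  rw [Ideal.span_singleton_le_iff_mem]

lemma exists_prime_factor_mem (q : Ideal (MvPolynomial (Fin (n + 1)) k)) [hq : q.IsPrime] :
    ∀ g : MvPolynomial (Fin (n + 1)) k, g ≠ 0 → g ∈ q → ∃ p, Prime p ∧ p ∣ g ∧ p ∈ q := by
  intro g
  induction g using UniqueFactorizationMonoid.induction_on_prime with
  | h₁ => intro h; exact absurd rfl h
  | h₂ x hx => intro _ h; exact absurd (Ideal.eq_top_of_isUnit_mem _ h hx) hq.ne_top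
  | h₃ a p ha hp ih =>
    intro _ hmem
    rcases hq.mem_or_mem hmem with h | h
    · exact ⟨p, hp, dvd_mul_right p a, h⟩
    · obtain ⟨p', hp', hdvd, hmem'⟩ := ih ha h
      exact ⟨p', hp', hdvd.mul_left p, hmem'⟩

lemma isMin_botPt : IsMin (botPt : ProjectiveSpectrum (CohB1.polyGrading n k)) :=
  fun y _ => botPt_le y

theorem height_eq_one_iff (η : ProjectiveSpectrum (CohB1.polyGrading n k)) :
    Order.height η = 1 ↔ ∃ f : MvPolynomial (Fin (n + 1)) k, Irreducible f ∧
      f.IsHomogeneous f.totalDegree ∧ idl η = Ideal.span {f} := by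
  constructor
  · intro h
    have hne : η ≠ botPt := by
      intro h0
      rw [h0, Order.height_eq_zero.2 isMin_botPt] at h
      exact zero_ne_one h
    have hidl : idl η ≠ ⊥ := by
      intro h0
      apply hne
      apply ProjectiveSpectrum.ext
      apply HomogeneousIdeal.toIdeal_injective
      exact h0
    -- a nonzero homogeneous element
    obtain ⟨a, ha, ha0⟩ := Submodule.exists_mem_ne_zero_of_ne_bot hidl
    classical
    obtain ⟨i, hi⟩ : ∃ i, (DirectSum.decompose (CohB1.polyGrading n k) a i :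
        MvPolynomial (Fin (n + 1)) k) ≠ 0 := by
      by_contra hcon
      push Not at hcon
      apply ha0
      rw [← DirectSum.sum_support_decompose (CohB1.polyGrading n k) a]
      exact Finset.sum_eq_zero fun i _ => hcon i
    set g : MvPolynomial (Fin (n + 1)) k :=
      (DirectSum.decompose (CohB1.polyGrading n k) a i : MvPolynomial (Fin (n + 1)) k) with hg
    have hgmem : g ∈ idl η := η.asHomogeneousIdeal.isHomogeneous i ha
    have hghom : g.IsHomogeneous i :=
      (MvPolynomial.mem_homogeneousSubmodule _ _).1 (SetLike.coe_mem _)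
    obtain ⟨p, hp, hdvd, hpmem⟩ := exists_prime_factor_mem (idl η) g hi hgmem
    obtain ⟨c, hc⟩ := hdvd
    have hph := (hom_of_mul hghom hi hc.symm).1
    have hle : Ideal.span {p} ≤ idl η := (Ideal.span_singleton_le_iff_mem _).2 hpmem
    have hne' : Ideal.span {p} ≠ irr k n := fun h => not_le_of_gt (idl_lt_irr η) (h ▸ hle)
    obtain ⟨ξ, hξ, -⟩ := prime_pt' hp hph hne'
    have hξη : ξ ≤ η := by
      change idl ξ ≤ idl η
      rw [hξ]; exact hle
    have hbξ : botPt < ξ := by
      change (⊥ : Ideal _) < idl ξ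
      rw [hξ, bot_lt_iff_ne_bot]
      intro h0
      rw [Ideal.span_singleton_eq_bot] at h0
      exact hp.ne_zero h0
    rcases hξη.lt_or_eq with hlt | heq
    · exfalso
      have h1 := Order.height_add_one_le hbξ
      have h2 := Order.height_add_one_le hlt
      rw [h] at h2
      have h3 : (1 : ℕ∞) + 1 ≤ 1 := le_trans (add_le_add_left (le_trans (by simp) h1) 1) h2
      exact absurd h3 (by decide)
    · refine ⟨p, hp.irreducible, hph, ?_⟩
      rw [← heq, hξ]
  · rintro ⟨f, hf, hfh, hidl⟩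
    have hfp : Prime f := UniqueFactorizationMonoid.irreducible_iff_prime.1 hf
    apply le_antisymm
    · have : Order.height η ≤ ((1 : ℕ) : ℕ∞) := by
        rw [Order.height_le_coe_iff]
        intro y hy
        have hlt : idl y < Ideal.span {f} := by rw [← hidl]; exact hy
        have hy0 : idl y = ⊥ := eq_bot_of_lt_span_prime hfp hlt
        have : y = botPt := by
          apply ProjectiveSpectrum.ext
          apply HomogeneousIdeal.toIdeal_injective
          exact hy0
        rw [this, Order.height_eq_zero.2 isMin_botPt]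
        exact_mod_cast one_pos
      exact_mod_cast this
    · have hb : botPt < η := by
        change (⊥ : Ideal _) < idl η
        rw [hidl, bot_lt_iff_ne_bot]
        intro h0
        rw [Ideal.span_singleton_eq_bot] at h0
        exact hfp.ne_zero h0
      exact le_trans (by simp) (Order.height_add_one_le hb)

theorem S10821_main
    (Z : TopologicalSpace.IrreducibleCloseds (ProjectiveSpectrum (CohB1.polyGrading n k))) :
    Order.coheight Z = 1 ↔
      ∃ (d : ℕ) (f : MvPolynomial (Fin (n + 1)) k), f.IsHomogeneous d ∧ Irreducible f ∧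
        (Z : Set (ProjectiveSpectrum (CohB1.polyGrading n k))) =
          ProjectiveSpectrum.zeroLocus (CohB1.polyGrading n k)
            ({f} : Set (MvPolynomial (Fin (n + 1)) k)) := by
  rw [coheight_irreducibleCloseds, height_eq_one_iff]
  constructor
  · rintro ⟨f, hf, hfh, hidl⟩
    refine ⟨f.totalDegree, f, hfh, hf, ?_⟩
    rw [← closure_genPt _ Z.isIrreducible Z.isClosed, closure_singleton]
    have h1 : ((genPt (CohB1.polyGrading n k) Z.isIrreducible).asHomogeneousIdeal :
        Set (MvPolynomial (Fin (n + 1)) k)) = ((Ideal.span {f} : Ideal _) : Set _) := by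
      rw [← hidl]; rfl
    rw [h1, zeroLocus_span]
  · rintro ⟨d, f, hfh, hf, hZ⟩
    have hfp : Prime f := UniqueFactorizationMonoid.irreducible_iff_prime.1 hf
    have hfd : f.totalDegree = d := hfh.totalDegree hf.ne_zero
    have hfh' : f.IsHomogeneous f.totalDegree := hfd ▸ hfh
    obtain ⟨y, hy⟩ := Z.isIrreducible.nonempty
    rw [hZ, mem_zeroLocus, Set.singleton_subset_iff] at hy
    have hle : Ideal.span {f} ≤ idl y := (Ideal.span_singleton_le_iff_mem _).2 hy
    have hne' : Ideal.span {f} ≠ irr k n := fun h => not_le_of_gt (idl_lt_irr y) (h ▸ hle)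
    obtain ⟨ξ, hξ, hV⟩ := prime_pt' hfp hfh' hne'
    refine ⟨f, hf, hfh', ?_⟩
    have : genPt _ Z.isIrreducible = ξ := by
      apply ProjectiveSpectrum.ext
      change vanishingIdeal (Z : Set _) = ξ.asHomogeneousIdeal
      rw [hZ, hV, Ici_eq_closure, vanishingIdeal_closure, vanishingIdeal_singleton]
    rw [this, hξ]

theorem S10840_main (a b : ℕ)
    (f g : MvPolynomial (Fin 3) k) (hf : f.IsHomogeneous a) (hg : g.IsHomogeneous b)
    (ha : 0 < a) (hb : 0 < b) (hf0 : f ≠ 0) (hg0 : g ≠ 0) :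
    topologicalKrullDim ↥(ProjectiveSpectrum.zeroLocus (CohB1.polyGrading 2 k)
        ({f, g} : Set (MvPolynomial (Fin 3) k))) = 0 ↔ IsRelPrime f g := by
  have hYc : IsClosed (ProjectiveSpectrum.zeroLocus (CohB1.polyGrading 2 k)
      ({f, g} : Set (MvPolynomial (Fin 3) k))) := isClosed_zeroLocus _ _
  rw [topologicalKrullDim_eq_krullDim_pts _ _ hYc]
  have hmemY : ∀ y : ProjectiveSpectrum (CohB1.polyGrading 2 k),
      y ∈ ProjectiveSpectrum.zeroLocus (CohB1.polyGrading 2 k)
        ({f, g} : Set (MvPolynomial (Fin 3) k)) ↔ f ∈ idl y ∧ g ∈ idl y := by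
    intro y
    rw [mem_zeroLocus, Set.insert_subset_iff, Set.singleton_subset_iff]
    rfl
  constructor
  · intro hdim d hdf hdg
    by_contra hdu
    have hd0 : d ≠ 0 := by
      rintro rfl
      exact hf0 (zero_dvd_iff.1 hdf)
    obtain ⟨p, hp, hpd⟩ := WfDvdMonoid.exists_irreducible_factor hdu hd0
    have hpp : Prime p := UniqueFactorizationMonoid.irreducible_iff_prime.1 hp
    have hpf : p ∣ f := hpd.trans hdf
    have hpg : p ∣ g := hpd.trans hdg
    obtain ⟨c, hc⟩ := hpf
    have hph := (hom_of_mul (n := 2) hf hf0 hc.symm).1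
    obtain ⟨ξ, hξ, hcξ, hVξ⟩ := prime_pt (n := 2) hpp hph (by omega)
    have hnm : ¬ IsMax ξ := by
      rw [← Order.coheight_eq_zero, hcξ]
      exact_mod_cast (by omega : (2 - 1 : ℕ) ≠ 0)
    rw [not_isMax_iff] at hnm
    obtain ⟨y, hy⟩ := hnm
    have hξY : ξ ∈ ProjectiveSpectrum.zeroLocus (CohB1.polyGrading 2 k)
        ({f, g} : Set (MvPolynomial (Fin 3) k)) := by
      rw [hmemY, hξ, Ideal.mem_span_singleton, Ideal.mem_span_singleton]
      exact ⟨⟨c, hc⟩, hpg⟩
    have hyY : y ∈ ProjectiveSpectrum.zeroLocus (CohB1.polyGrading 2 k)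
        ({f, g} : Set (MvPolynomial (Fin 3) k)) := by
      rw [hmemY] at hξY ⊢
      exact ⟨hy.le hξY.1, hy.le hξY.2⟩
    have hpos : 0 < Order.krullDim (Pts (CohB1.polyGrading 2 k)
        (ProjectiveSpectrum.zeroLocus (CohB1.polyGrading 2 k)
          ({f, g} : Set (MvPolynomial (Fin 3) k)))) := by
      rw [Order.krullDim_pos_iff]
      exact ⟨⟨ξ, hξY⟩, ⟨y, hyY⟩, hy⟩
    rw [hdim] at hpos
    exact lt_irrefl _ hpos
  · intro hrel
    apply le_antisymm
    · rw [Order.krullDim_nonpos_iff_forall_isMax]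
      rintro ⟨y, hy⟩
      rw [hmemY] at hy
      obtain ⟨p, hp, hpf, hpy⟩ := exists_prime_factor_mem (n := 2) (idl y) f hf0 hy.1
      obtain ⟨c, hc⟩ := hpf
      have hph := (hom_of_mul (n := 2) hf hf0 hc.symm).1
      obtain ⟨ξ, hξ, hcξ, hVξ⟩ := prime_pt (n := 2) hp hph (by omega)
      have hle : ξ ≤ y := by
        change idl ξ ≤ idl y
        rw [hξ]
        exact (Ideal.span_singleton_le_iff_mem _).2 hpy
      have hlt : ξ < y := by
        refine lt_of_le_of_ne hle ?_
        intro h
        have hg' : g ∈ idl ξ := by rw [h]; exact hy.2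
        rw [hξ, Ideal.mem_span_singleton] at hg'
        exact hp.not_unit (hrel ⟨c, hc⟩ hg')
      have hcy : Order.coheight y = 0 := by
        have h1 := Order.coheight_add_one_le hlt
        rw [hcξ] at h1
        have h2 : Order.coheight y + 1 ≤ 1 := by exact_mod_cast h1
        have h3 : Order.coheight y < 1 := (ENat.add_one_le_iff' ENat.one_ne_top).1 h2
        exact Order.lt_one_iff.1 h3
      have hmax : IsMax y := Order.coheight_eq_zero.1 hcy
      intro z hz
      exact hmax hz
    · rw [Order.krullDim_nonneg_iff]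
      have h := (S10823_main (k := k) (n := 2) 2 (Set.Ici botPt) (isClosed_Ici _ botPt)
        (isIrreducible_Ici _ botPt) ![f, g] ![a, b]
        (by intro i; fin_cases i; exact hf; exact hg)
        (by intro i; fin_cases i; exact ha; exact hb)).2
      rw [dim_Ici, coheight_botPt] at h
      obtain ⟨y, hy⟩ := h le_rfl
      have hr : Set.range ![f, g] = ({f, g} : Set (MvPolynomial (Fin 3) k)) := by
        ext x
        simp only [Set.mem_range, Set.mem_insert_iff, Set.mem_singleton_iff]
        constructor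
        · rintro ⟨i, rfl⟩
          fin_cases i
          · left; rfl
          · right; rfl
        · rintro (rfl | rfl)
          · exact ⟨0, rfl⟩
          · exact ⟨1, rfl⟩
      rw [hr] at hy
      exact ⟨⟨y, hy.2⟩⟩

end Groth.Agent.Lib.Helper6.ProjDim
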