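import Mathlib
import Groth.Prelude.Def_CohB1
import Groth.Agent.Lib.Helper6.ProjDim.Main

set_option linter.unusedSectionVars false
set_option linter.unusedVariables false
set_option autoImplicit false
set_option maxHeartbeats 400000

noncomputable section

namespace Groth.Agent.Lib.Helper6.ProjDim

open ProjectiveSpectrum TopologicalSpace

universe u

variable {k : Type u} [Field k] {n : ℕ}

lemma coeff_zero_of_mem_irr {f : MvPolynomial (Fin (n + 1)) k} (hf : f ∈ irr k n) :
    MvPolynomial.coeff 0 f = 0 := by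
  have h : f ∈ HomogeneousIdeal.irrelevant (CohB1.polyGrading n k) := hf
  rw [HomogeneousIdeal.mem_irrelevant_iff, GradedRing.proj_apply] at h
  have h2 : (DirectSum.decompose (CohB1.polyGrading n k) f 0 : MvPolynomial (Fin (n + 1)) k) =
      MvPolynomial.homogeneousComponent 0 f := MvPolynomial.decomposition.decompose'_apply f 0
  rw [h2, MvPolynomial.homogeneousComponent_zero] at h
  exact MvPolynomial.C_injective _ _ (by rw [h, map_zero])

lemma irr_le_span_X : irr k n ≤ Ideal.span (Set.range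
    (MvPolynomial.X : Fin (n + 1) → MvPolynomial (Fin (n + 1)) k)) := by
  intro f hf
  rw [← Set.image_univ, MvPolynomial.mem_ideal_span_X_image]
  intro m hm
  have hm0 : m ≠ 0 := by
    rintro rfl
    rw [MvPolynomial.mem_support_iff] at hm
    exact hm (coeff_zero_of_mem_irr hf)
  obtain ⟨i, hi⟩ := Finsupp.ne_iff.1 hm0
  exact ⟨i, Set.mem_univ _, hi⟩

lemma X_mem_irr (i : Fin (n + 1)) : (MvPolynomial.X i : MvPolynomial (Fin (n + 1)) k) ∈ irr k n :=
  mem_irr_of_isHomogeneous (MvPolynomial.isHomogeneous_X k i) one_pos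

/-- a point containing all the variables but `X 0` is maximal -/
lemma isMax_of_vars_mem (y : ProjectiveSpectrum (CohB1.polyGrading n k))
    (hy : ∀ j : Fin (n + 1), 1 ≤ j.val → (MvPolynomial.X j : MvPolynomial (Fin (n + 1)) k) ∈ idl y) :
    IsMax y := by
  have hle : irr k n ≤ idl y ⊔ Ideal.span {(MvPolynomial.X 0 : MvPolynomial (Fin (n + 1)) k)} := by
    refine irr_le_span_X.trans ?_
    rw [Ideal.span_le]
    rintro _ ⟨j, rfl⟩
    by_cases hj : 1 ≤ j.val
    · exact Ideal.mem_sup_left (hy j hj)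
    · have : j = 0 := by
        apply Fin.ext
        simp only [Fin.val_zero]
        omega
      rw [this]
      exact Ideal.mem_sup_right (Ideal.subset_span rfl)
  have hmin : irr k n ∈ (idl y ⊔ Ideal.span
      {(MvPolynomial.X 0 : MvPolynomial (Fin (n + 1)) k)}).minimalPrimes := by
    refine ⟨⟨(irr_isMaximal k n).isPrime, sup_le (idl_le_irr y)
      ((Ideal.span_singleton_le_iff_mem _).2 (X_mem_irr 0))⟩, ?_⟩
    rintro q ⟨hq, hq2⟩ _
    exact hle.trans hq2
  have hK := dq_le_add_card (k := k) (p := idl y) (q := irr k n)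
    {(MvPolynomial.X 0 : MvPolynomial (Fin (n + 1)) k)} (by simpa using hmin)
  rw [dq_irr, zero_add] at hK
  intro z hz
  by_contra hzy
  have hlt : y < z := lt_of_le_not_ge hz hzy
  have h1 := dq_add_one_le (k := k) (show idl y < idl z from hlt)
  have h2 := one_le_dq z
  obtain ⟨a, ha⟩ := dq_nat (k := k) (idl y)
  obtain ⟨b, hb⟩ := dq_nat (k := k) (idl z)
  rw [ha] at hK h1
  rw [hb] at h1 h2
  have hK' : a ≤ 1 := by simpa using hK
  have h1' : b + 1 ≤ a := by exact_mod_cast h1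
  have h2' : 1 ≤ b := by exact_mod_cast h2
  omega

/-- closed sets are upper sets -/
lemma mem_of_le_of_isClosed {Y : Set (ProjectiveSpectrum (CohB1.polyGrading n k))} (hY : IsClosed Y)
    {y z : ProjectiveSpectrum (CohB1.polyGrading n k)} (hy : y ∈ Y) (hyz : y ≤ z) : z ∈ Y := by
  have h1 : closure {y} ⊆ Y := closure_minimal (Set.singleton_subset_iff.2 hy) hY
  exact h1 ((mem_closure_singleton_iff _ y z).2 hyz)

/-- a closed set of positive dimension meets every hypersurface -/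
lemma inter_nonempty_of_not_nonpos {Y : Set (ProjectiveSpectrum (CohB1.polyGrading n k))}
    (hY : IsClosed Y) (hdim : ¬ topologicalKrullDim ↥Y ≤ 0)
    (h : MvPolynomial (Fin (n + 1)) k) {d : ℕ} (hh : h.IsHomogeneous d) (hd : 0 < d) :
    (Y ∩ zeroLocus (CohB1.polyGrading n k) {h}).Nonempty := by
  rw [topologicalKrullDim_eq_krullDim_pts _ _ hY, Order.krullDim_nonpos_iff_forall_isMax] at hdim
  push Not at hdim
  obtain ⟨⟨y, hy⟩, hnm⟩ := hdim
  rw [not_isMax_iff] at hnm
  obtain ⟨⟨z, hz⟩, hyz⟩ := hnm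
  have hyz' : y < z := hyz
  have hnm' : ¬ IsMax y := not_isMax_iff.2 ⟨z, hyz'⟩
  have hc : Order.coheight y ≠ 0 := fun h0 => hnm' (Order.coheight_eq_zero.1 h0)
  have h2 := (S10823_main (k := k) (n := n) 1 (Set.Ici y) (isClosed_Ici _ y)
    (isIrreducible_Ici _ y) (fun _ => h) (fun _ => d) (fun _ => hh) (fun _ => hd)).2
  rw [dim_Ici, Set.range_const] at h2
  have h1 : ((1 : ℕ) : WithBot ℕ∞) ≤ ((Order.coheight y : ℕ∞) : WithBot ℕ∞) := by
    have : (1 : ℕ∞) ≤ Order.coheight y := Order.one_le_iff_pos.2 (pos_iff_ne_zero.2 hc)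
    exact_mod_cast this
  obtain ⟨w, hw1, hw2⟩ := h2 h1
  exact ⟨w, mem_of_le_of_isClosed hY hy hw1, hw2⟩

theorem S13907_main (C : Set (ProjectiveSpectrum (CohB1.polyGrading n k)))
    (hC : IsClosed C) (hirr : IsIrreducible C) :
    ∃ i : ℕ, i ≤ n ∧
      (C ∩ ProjectiveSpectrum.zeroLocus (CohB1.polyGrading n k)
          ((fun j : Fin (n + 1) => (MvPolynomial.X j : MvPolynomial (Fin (n + 1)) k)) ''
            {j : Fin (n + 1) | 1 ≤ j.val ∧ j.val ≤ i})).Nonempty ∧
      topologicalKrullDim ↥(C ∩ ProjectiveSpectrum.zeroLocus (CohB1.polyGrading n k)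
          ((fun j : Fin (n + 1) => (MvPolynomial.X j : MvPolynomial (Fin (n + 1)) k)) ''
            {j : Fin (n + 1) | 1 ≤ j.val ∧ j.val ≤ i})) = 0 := by
  classical
  set L : ℕ → Set (ProjectiveSpectrum (CohB1.polyGrading n k)) := fun i =>
    C ∩ ProjectiveSpectrum.zeroLocus (CohB1.polyGrading n k)
      ((fun j : Fin (n + 1) => (MvPolynomial.X j : MvPolynomial (Fin (n + 1)) k)) ''
        {j : Fin (n + 1) | 1 ≤ j.val ∧ j.val ≤ i}) with hL
  have hLc : ∀ i, IsClosed (L i) := fun i => hC.inter (isClosed_zeroLocus _ _)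
  have hdim0 : ∀ i, (L i).Nonempty → topologicalKrullDim ↥(L i) ≤ 0 →
      topologicalKrullDim ↥(L i) = 0 := by
    intro i hne hle
    apply le_antisymm hle
    rw [topologicalKrullDim_eq_krullDim_pts _ _ (hLc i), Order.krullDim_nonneg_iff]
    obtain ⟨y, hy⟩ := hne
    exact ⟨⟨y, hy⟩⟩
  -- dimension at n is ≤ 0
  have hn : topologicalKrullDim ↥(L n) ≤ 0 := by
    rw [topologicalKrullDim_eq_krullDim_pts _ _ (hLc n), Order.krullDim_nonpos_iff_forall_isMax]
    rintro ⟨y, hy⟩
    have hmax : IsMax y := by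
      apply isMax_of_vars_mem
      intro j hj
      have := hy.2
      rw [mem_zeroLocus] at this
      exact this ⟨j, ⟨hj, by have := j.2; omega⟩, rfl⟩
    intro z hz
    exact hmax hz
  have hex : ∃ i, i ≤ n ∧ topologicalKrullDim ↥(L i) ≤ 0 := ⟨n, le_rfl, hn⟩
  let i₀ := Nat.find hex
  have hi₀ : i₀ ≤ n ∧ topologicalKrullDim ↥(L i₀) ≤ 0 := Nat.find_spec hex
  have hmin : ∀ j < i₀, ¬ (j ≤ n ∧ topologicalKrullDim ↥(L j) ≤ 0) := fun j hj => Nat.find_min hex hj
  refine ⟨i₀, hi₀.1, ?_⟩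
  have hne : (L i₀).Nonempty := by
    rcases Nat.eq_zero_or_pos i₀ with h0 | hpos
    · rw [h0]
      obtain ⟨y, hy⟩ := hirr.nonempty
      refine ⟨y, hy, ?_⟩
      rw [mem_zeroLocus]
      rintro _ ⟨j, ⟨h1, h2⟩, rfl⟩
      omega
    · obtain ⟨j, hj⟩ : ∃ j, i₀ = j + 1 := ⟨i₀ - 1, by omega⟩
      have hjn : j + 1 ≤ n := hj ▸ hi₀.1
      have hnot := hmin j (by omega)
      have hdj : ¬ topologicalKrullDim ↥(L j) ≤ 0 := fun h => hnot ⟨by omega, h⟩
      obtain ⟨w, hw1, hw2⟩ := inter_nonempty_of_not_nonpos (hLc j) hdj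
        (MvPolynomial.X (⟨j + 1, by omega⟩ : Fin (n + 1))) (MvPolynomial.isHomogeneous_X k _) one_pos
      rw [hj]
      refine ⟨w, hw1.1, ?_⟩
      rw [mem_zeroLocus]
      rintro _ ⟨i, ⟨h1, h2⟩, rfl⟩
      by_cases hi : i.val ≤ j
      · have := hw1.2
        rw [mem_zeroLocus] at this
        exact this ⟨i, ⟨h1, hi⟩, rfl⟩
      · have hij : i = ⟨j + 1, by omega⟩ := by
          apply Fin.ext
          simp only
          omega
        rw [hij]
        rw [mem_zeroLocus, Set.singleton_subset_iff] at hw2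
        exact hw2
  exact ⟨hne, hdim0 i₀ hne hi₀.2⟩

section Avoid

variable [Infinite k]

lemma exists_linear_avoid (Q : Finset (Ideal (MvPolynomial (Fin (n + 1)) k)))
    (hQ : ∀ q ∈ Q, ¬ irr k n ≤ q) :
    ∃ h : MvPolynomial (Fin (n + 1)) k, h.IsHomogeneous 1 ∧ ∀ q ∈ Q, h ∉ q := by
  classical
  let E := ↥(MvPolynomial.homogeneousSubmodule (Fin (n + 1)) k 1)
  let W : Ideal (MvPolynomial (Fin (n + 1)) k) → Subspace k E := fun q =>
    Submodule.comap (MvPolynomial.homogeneousSubmodule (Fin (n + 1)) k 1).subtype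
      (q.restrictScalars k)
  have hW : ∀ q ∈ Q, W q ≠ ⊤ := by
    intro q hq htop
    apply hQ q hq
    refine irr_le_span_X.trans ?_
    rw [Ideal.span_le]
    rintro _ ⟨i, rfl⟩
    have : (⟨MvPolynomial.X i, (MvPolynomial.mem_homogeneousSubmodule _ _).2
        (MvPolynomial.isHomogeneous_X k i)⟩ : E) ∈ W q := by
      rw [htop]; trivial
    exact this
  have hne := Subspace.biUnion_ne_univ_of_top_notMem (k := k) (E := E) (s := Q.image W) (by
    intro hmem
    rw [Finset.mem_image] at hmem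
    obtain ⟨q, hq, hqt⟩ := hmem
    exact hW q hq hqt)
  obtain ⟨v, hv⟩ : ∃ v : E, v ∉ ⋃ p ∈ Q.image W, (p : Set E) := by
    by_contra hcon
    push Not at hcon
    exact hne (Set.eq_univ_of_forall hcon)
  refine ⟨v.1, (MvPolynomial.mem_homogeneousSubmodule _ _).1 v.2, ?_⟩
  intro q hq hvq
  apply hv
  simp only [Set.mem_iUnion, SetLike.mem_coe]
  exact ⟨W q, Finset.mem_image_of_mem W hq, hvq⟩

theorem exists_linear_forms : ∀ (t : ℕ) (J : Ideal (MvPolynomial (Fin (n + 1)) k)),
    J.IsHomogeneous (CohB1.polyGrading n k) → J ≤ irr k n →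
    (∀ q ∈ J.minimalPrimes, dq q ≤ (t : WithBot ℕ∞)) →
    ∃ h : Fin t → MvPolynomial (Fin (n + 1)) k, (∀ i, (h i).IsHomogeneous 1) ∧
      irr k n ≤ (J ⊔ Ideal.span (Set.range h)).radical := by
  intro t
  induction t with
  | zero =>
    intro J hJh hJi hJ
    refine ⟨Fin.elim0, fun i => i.elim0, ?_⟩
    rw [← Ideal.sInf_minimalPrimes]
    apply le_sInf
    intro q hq
    have hq' : q ∈ J.minimalPrimes := by
      have : J ⊔ Ideal.span (Set.range (Fin.elim0 : Fin 0 → MvPolynomial (Fin (n + 1)) k)) = J := by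
        rw [Set.range_eq_empty, Ideal.span_empty, sup_bot_eq]
      rw [this] at hq
      exact hq
    haveI hqp : q.IsPrime := hq'.1.1
    have hqh := isHomogeneous_of_mem_minimalPrimes _ hJh hq'
    have hqi : q ≤ irr k n := le_irrelevant_of_isHomogeneous (zeroField_poly k n) hqh hqp.ne_top
    have hd := hJ q hq'
    by_contra hnle
    have hlt : q < irr k n := lt_of_le_not_ge hqi hnle
    have h1 := dq_add_one_le (k := k) hlt
    rw [dq_irr, zero_add] at h1
    obtain ⟨a, ha⟩ := dq_nat (k := k) q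
    rw [ha] at h1 hd
    have h1' : 1 ≤ a := by exact_mod_cast h1
    have hd' : a ≤ 0 := by exact_mod_cast hd
    omega
  | succ t ih =>
    intro J hJh hJi hJ
    classical
    have hfin : J.minimalPrimes.Finite := Ideal.finite_minimalPrimes_of_isNoetherianRing _ J
    let Q : Finset (Ideal (MvPolynomial (Fin (n + 1)) k)) :=
      hfin.toFinset.filter (fun q => ¬ irr k n ≤ q)
    obtain ⟨h₀, hh₀, havoid⟩ := exists_linear_avoid Q (by
      intro q hq
      exact (Finset.mem_filter.1 hq).2)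
    have hh₀i : h₀ ∈ irr k n := mem_irr_of_isHomogeneous hh₀ one_pos
    have hJ'h : (J ⊔ Ideal.span {h₀}).IsHomogeneous (CohB1.polyGrading n k) := by
      apply hJh.sup
      apply Ideal.homogeneous_span
      intro g hg
      rw [Set.mem_singleton_iff] at hg
      rw [hg]
      exact ⟨1, (MvPolynomial.mem_homogeneousSubmodule _ _).2 hh₀⟩
    have hJ'i : J ⊔ Ideal.span {h₀} ≤ irr k n :=
      sup_le hJi ((Ideal.span_singleton_le_iff_mem _).2 hh₀i)
    have hJ' : ∀ q' ∈ (J ⊔ Ideal.span {h₀}).minimalPrimes, dq q' ≤ (t : WithBot ℕ∞) := by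
      intro q' hq'
      haveI hq'p : q'.IsPrime := hq'.1.1
      have hJq' : J ≤ q' := le_sup_left.trans hq'.1.2
      have hh₀q' : h₀ ∈ q' := hq'.1.2 (Ideal.mem_sup_right (Ideal.subset_span rfl))
      obtain ⟨q, hq, hqq'⟩ := Ideal.exists_minimalPrimes_le hJq'
      haveI hqp : q.IsPrime := hq.1.1
      by_cases hqi : irr k n ≤ q
      · -- then q' = irr
        have hq'h := isHomogeneous_of_mem_minimalPrimes _ hJ'h hq'
        have hq'i : q' ≤ irr k n :=
          le_irrelevant_of_isHomogeneous (zeroField_poly k n) hq'h hq'p.ne_top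
        have : q' = irr k n := le_antisymm hq'i (hqi.trans hqq')
        rw [this, dq_irr]
        exact_mod_cast Nat.zero_le t
      · have hqQ : q ∈ Q := Finset.mem_filter.2 ⟨hfin.mem_toFinset.2 hq, hqi⟩
        have hlt : q < q' := lt_of_le_of_ne hqq' (fun h => havoid q hqQ (h ▸ hh₀q'))
        have h1 := dq_add_one_le (k := k) hlt
        have h2 := hJ q hq
        obtain ⟨a, ha⟩ := dq_nat (k := k) q
        obtain ⟨b, hb⟩ := dq_nat (k := k) q'
        rw [ha, hb] at h1
        rw [ha] at h2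
        rw [hb]
        have h1' : b + 1 ≤ a := by exact_mod_cast h1
        have h2' : a ≤ t + 1 := by exact_mod_cast h2
        exact_mod_cast (by omega : b ≤ t)
    obtain ⟨h', hh', hrad⟩ := ih (J ⊔ Ideal.span {h₀}) hJ'h hJ'i hJ'
    refine ⟨Fin.cons h₀ h', ?_, ?_⟩
    · intro i
      refine Fin.cases ?_ (fun j => ?_) i
      · rw [Fin.cons_zero]; exact hh₀
      · rw [Fin.cons_succ]; exact hh' j
    · have : J ⊔ Ideal.span (Set.range (Fin.cons h₀ h' : Fin (t + 1) → _)) =
          J ⊔ Ideal.span {h₀} ⊔ Ideal.span (Set.range h') := by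
        rw [Fin.range_cons, Set.insert_eq, Ideal.span_union, sup_assoc]
      rw [this]
      exact hrad

theorem S10915_main (r : ℕ) (I : Ideal (MvPolynomial (Fin (n + 1)) k))
    (hIh : I.IsHomogeneous (CohB1.polyGrading n k)) [hI : I.IsPrime]
    (hdim : ringKrullDim (MvPolynomial (Fin (n + 1)) k ⧸ I) = (r : WithBot ℕ∞) + 1) :
    ∃ h : Fin (r + 1) → MvPolynomial (Fin (n + 1)) k, (∀ i, (h i).IsHomogeneous 1) ∧
      ∃ N : ℕ, (Ideal.span (Set.range (MvPolynomial.X : Fin (n + 1) →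
        MvPolynomial (Fin (n + 1)) k))) ^ N ≤ I ⊔ Ideal.span (Set.range h) := by
  have hIi : I ≤ irr k n := le_irrelevant_of_isHomogeneous (zeroField_poly k n) hIh hI.ne_top
  obtain ⟨h, hh, hrad⟩ := exists_linear_forms (k := k) (n := n) (r + 1) I hIh hIi (by
    intro q hq
    rw [Ideal.minimalPrimes_eq_subsingleton_self, Set.mem_singleton_iff] at hq
    rw [hq]
    change ringKrullDim _ ≤ _
    rw [hdim]
    exact_mod_cast le_rfl)
  refine ⟨h, hh, ?_⟩
  have hX : Ideal.span (Set.range (MvPolynomial.X : Fin (n + 1) →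
      MvPolynomial (Fin (n + 1)) k)) ≤ irr k n := by
    rw [Ideal.span_le]
    rintro _ ⟨i, rfl⟩
    exact X_mem_irr i
  exact Ideal.exists_pow_le_of_le_radical_of_fg (hX.trans hrad)
    (Submodule.fg_span (Set.finite_range _))

end Avoid

end Groth.Agent.Lib.Helper6.ProjDim
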